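import Mathlib

/-!
# A criterion for universal openness in terms of polynomial rings
-/

universe u

open TensorProduct CategoryTheory Limits AlgebraicGeometry

namespace Groth.Agent.UnivOpenCrit

/-- If the image of `D(∑ Xᵢ bᵢ)` in `Spec A[X]` is open, so is the image of `D(∑ rᵢ ⊗ bᵢ)` in
`Spec R` for any `A`-algebra `R`. -/
lemma isOpen_image_basicOpen {A B R : Type u} [CommRing A] [CommRing B] [CommRing R] [Algebra A B]
    [Algebra A R] {ι : Type*} [Fintype ι] (r : ι → R) (b : ι → B)
    (h : IsOpen (PrimeSpectrum.comap (MvPolynomial.map (σ := ι) (algebraMap A B)) ''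
        (PrimeSpectrum.basicOpen (∑ i : ι, MvPolynomial.X i * MvPolynomial.C (b i)) :
          Set (PrimeSpectrum (MvPolynomial ι B))))) :
    IsOpen (PrimeSpectrum.comap (algebraMap R (R ⊗[A] B)) ''
      (PrimeSpectrum.basicOpen (∑ i : ι, r i ⊗ₜ[A] b i) : Set (PrimeSpectrum (R ⊗[A] B)))) := by
  let ψ : MvPolynomial ι A →+* R := MvPolynomial.eval₂Hom (algebraMap A R) r
  let Ψ : MvPolynomial ι B →+* R ⊗[A] B := MvPolynomial.eval₂Hom
    (Algebra.TensorProduct.includeRight : B →ₐ[A] R ⊗[A] B).toRingHom (fun i => r i ⊗ₜ[A] 1)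
  have hsq : Ψ.comp (MvPolynomial.map (algebraMap A B)) = (algebraMap R (R ⊗[A] B)).comp ψ := by
    apply MvPolynomial.ringHom_ext
    · intro a
      simp only [RingHom.comp_apply, MvPolynomial.map_C, Ψ, ψ, MvPolynomial.eval₂Hom_C]
      show (Algebra.TensorProduct.includeRight : B →ₐ[A] R ⊗[A] B) (algebraMap A B a) = _
      rw [AlgHom.commutes, IsScalarTower.algebraMap_apply A R (R ⊗[A] B)]
    · intro i
      simp [Ψ, ψ, Algebra.TensorProduct.algebraMap_apply]
  have hΨ : Ψ (∑ i : ι, MvPolynomial.X i * MvPolynomial.C (b i)) = ∑ i : ι, r i ⊗ₜ[A] b i := by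
    simp [Ψ]
  convert h.preimage (PrimeSpectrum.continuous_comap ψ) using 1
  ext p
  constructor
  · rintro ⟨z, hz, rfl⟩
    refine ⟨PrimeSpectrum.comap Ψ z, fun hm => hz ?_, ?_⟩
    · rw [← hΨ]; exact hm
    · rw [← PrimeSpectrum.comap_comp_apply, hsq, PrimeSpectrum.comap_comp_apply]
  · rintro ⟨q, hq, hqp⟩
    let P : Ideal (MvPolynomial ι A) := p.asIdeal.comap ψ
    have hqP : P = q.asIdeal.comap (MvPolynomial.map (algebraMap A B)) :=
      (congrArg PrimeSpectrum.asIdeal hqp).symm
    let k := P.ResidueField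
    let K := p.asIdeal.ResidueField
    let L := q.asIdeal.ResidueField
    letI : Algebra k K := (Ideal.ResidueField.map P p.asIdeal ψ rfl).toAlgebra
    letI : Algebra k L :=
      (Ideal.ResidueField.map P q.asIdeal (MvPolynomial.map (algebraMap A B)) hqP).toAlgebra
    obtain ⟨m, hm⟩ := Ideal.exists_maximal (K ⊗[k] L)
    let α : R →+* (K ⊗[k] L) ⧸ m :=
      ((Ideal.Quotient.mk m).comp Algebra.TensorProduct.includeLeftRingHom).comp (algebraMap R K)
    let β : MvPolynomial ι B →+* (K ⊗[k] L) ⧸ m :=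
      ((Ideal.Quotient.mk m).comp
        (Algebra.TensorProduct.includeRight : L →ₐ[k] K ⊗[k] L).toRingHom).comp
          (algebraMap (MvPolynomial ι B) L)
    have hαβ : ∀ x, α (ψ x) = β (MvPolynomial.map (algebraMap A B) x) := by
      intro x
      have h1 := Ideal.ResidueField.map_algebraMap P p.asIdeal ψ rfl x
      have h2 := Ideal.ResidueField.map_algebraMap P q.asIdeal
        (MvPolynomial.map (algebraMap A B)) hqP x
      simp only [α, β, RingHom.comp_apply]
      rw [← h1, ← h2]
      exact congrArg (Ideal.Quotient.mk m)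
        ((Algebra.TensorProduct.algebraMap_apply (S := k) (A := K) (B := L) _).symm.trans
          ((Algebra.TensorProduct.includeRight : L →ₐ[k] K ⊗[k] L).commutes _).symm)
    letI : Algebra A ((K ⊗[k] L) ⧸ m) := (α.comp (algebraMap A R)).toAlgebra
    have hA : ∀ a : A, β (MvPolynomial.C (algebraMap A B a)) = α (algebraMap A R a) := by
      intro a
      rw [← MvPolynomial.map_C, ← hαβ]
      simp [ψ]
    let χ : R ⊗[A] B →ₐ[A] (K ⊗[k] L) ⧸ m := Algebra.TensorProduct.productMap
      { toRingHom := α, commutes' := fun a => rfl }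
      { toRingHom := β.comp MvPolynomial.C, commutes' := fun a => hA a }
    have hχl : ∀ x : R, χ (x ⊗ₜ[A] 1) = α x := fun x => by
      rw [show χ (x ⊗ₜ[A] (1 : B)) = _ from Algebra.TensorProduct.productMap_apply_tmul _ _ _ _]
      show α x * β (MvPolynomial.C 1) = α x
      simp
    have hβ : χ.toRingHom.comp Ψ = β := by
      apply MvPolynomial.ringHom_ext
      · intro c
        simp only [RingHom.comp_apply, Ψ, MvPolynomial.eval₂Hom_C]
        show χ (1 ⊗ₜ[A] c) = _
        rw [show χ ((1 : R) ⊗ₜ[A] c) = _ from Algebra.TensorProduct.productMap_apply_tmul _ _ _ _]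
        show α 1 * β (MvPolynomial.C c) = _
        simp
      · intro i
        simp only [RingHom.comp_apply, Ψ, MvPolynomial.eval₂Hom_X']
        refine (hχl (r i)).trans ?_
        have := hαβ (MvPolynomial.X i)
        simpa [ψ] using this
    haveI : Field ((K ⊗[k] L) ⧸ m) := Ideal.Quotient.field m
    let z : PrimeSpectrum (R ⊗[A] B) := ⟨RingHom.ker χ.toRingHom, RingHom.ker_isPrime _⟩
    refine ⟨z, fun hm' => hq ?_, ?_⟩
    · have h3 : χ (∑ i : ι, r i ⊗ₜ[A] b i) = 0 := hm'
      rw [← hΨ] at h3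
      have h4 : β (∑ i : ι, MvPolynomial.X i * MvPolynomial.C (b i)) = 0 := by
        rw [← hβ]; exact h3
      have h5 : ((Ideal.Quotient.mk m).comp
          (Algebra.TensorProduct.includeRight : L →ₐ[k] K ⊗[k] L).toRingHom)
          (algebraMap (MvPolynomial ι B) L (∑ i : ι, MvPolynomial.X i * MvPolynomial.C (b i)))
          = 0 := h4
      rw [map_eq_zero_iff _ (RingHom.injective _), Ideal.algebraMap_residueField_eq_zero] at h5
      exact h5
    · apply PrimeSpectrum.ext
      ext x
      show χ (algebraMap R (R ⊗[A] B) x) = 0 ↔ x ∈ p.asIdeal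
      rw [Algebra.TensorProduct.algebraMap_apply, Algebra.algebraMap_self, RingHom.id_apply, hχl]
      show ((Ideal.Quotient.mk m).comp
          (Algebra.TensorProduct.includeLeftRingHom : K →+* K ⊗[k] L)) (algebraMap R K x) = 0 ↔ _
      rw [map_eq_zero_iff _ (RingHom.injective _), Ideal.algebraMap_residueField_eq_zero]

/-- Universal openness of a map of affine schemes from openness of the tensor base changes. -/
lemma universallyOpen_Spec {A B : Type u} [CommRing A] [CommRing B] [Algebra A B]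
    (h : ∀ (R : Type u) [CommRing R] [Algebra A R],
      IsOpenMap (PrimeSpectrum.comap (algebraMap R (R ⊗[A] B)))) :
    UniversallyOpen (Spec.map (CommRingCat.ofHom (algebraMap A B))) := by
  refine ⟨MorphismProperty.universally_mk' _ _ fun {T} g _ ↦ ?_⟩
  wlog hT : ∃ R, T = Spec R generalizing T
  · refine (IsZariskiLocalAtTarget.iff_of_openCover (P := topologically @IsOpenMap)
      T.affineCover).mpr fun i ↦ ?_
    refine (MorphismProperty.cancel_left_of_respectsIso _
      ((pullbackRightPullbackFstIso ..).inv ≫ (pullbackSymmetry ..).hom) _).mp ?_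
    simpa [Scheme.Cover.pullbackHom] using! this _ _ ⟨_, rfl⟩
  obtain ⟨R, rfl⟩ := hT
  obtain ⟨ψ, rfl⟩ := Spec.map_surjective g
  algebraize [ψ.hom]
  refine (MorphismProperty.cancel_left_of_respectsIso (topologically @IsOpenMap)
    (pullbackSpecIso A R B).inv _).mp ?_
  convert_to! topologically _ (Spec.map <| CommRingCat.ofHom (algebraMap R (R ⊗[A] B)))
  · exact pullbackSpecIso_inv_fst ..
  exact h R

lemma exists_finite_repr {A B R : Type u} [CommRing A] [CommRing B] [CommRing R] [Algebra A B]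
    [Algebra A R] (g : R ⊗[A] B) :
    ∃ (n : ℕ) (r : Fin n → R) (b : Fin n → B), g = ∑ i, r i ⊗ₜ[A] b i := by
  obtain ⟨S, hS⟩ := TensorProduct.exists_finset g
  refine ⟨S.card, fun i => (S.equivFin.symm i).1.1, fun i => (S.equivFin.symm i).1.2, ?_⟩
  rw [hS, ← Finset.sum_coe_sort, ← Equiv.sum_comp S.equivFin.symm]

end Groth.Agent.UnivOpenCrit

namespace Groth.Agent.UnivOpenCrit

lemma exists_repr_of_span {A B R : Type u} [CommRing A] [CommRing B] [CommRing R] [Algebra A B]
    [Algebra A R] {ι : Type*} [Fintype ι] (b : ι → B)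
    (hb : Submodule.span A (Set.range b) = ⊤) (g : R ⊗[A] B) :
    ∃ r : ι → R, g = ∑ i, r i ⊗ₜ[A] b i := by
  induction g using TensorProduct.induction_on with
  | zero => exact ⟨0, by simp⟩
  | tmul x y =>
    obtain ⟨c, hc⟩ := (Submodule.mem_span_range_iff_exists_fun A).mp (hb ▸ Submodule.mem_top (x := y))
    exact ⟨fun i => c i • x, by simp [← hc, TensorProduct.tmul_sum, TensorProduct.tmul_smul,
      TensorProduct.smul_tmul']⟩
  | add x y hx hy =>
    obtain ⟨r, hr⟩ := hx
    obtain ⟨s, hs⟩ := hy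
    exact ⟨r + s, by simp [hr, hs, TensorProduct.add_tmul, Finset.sum_add_distrib]⟩

lemma isOpenMap_comap_map_of_equiv {A B : Type u} [CommRing A] [CommRing B] {φ : A →+* B}
    {σ τ : Type*} (e : σ ≃ τ)
    (h : IsOpenMap (PrimeSpectrum.comap (MvPolynomial.map (σ := σ) φ))) :
    IsOpenMap (PrimeSpectrum.comap (MvPolynomial.map (σ := τ) φ)) := by
  have h1 : (MvPolynomial.map (σ := τ) φ) =
      ((MvPolynomial.renameEquiv B e).toRingEquiv.toRingHom.comp (MvPolynomial.map (σ := σ) φ)).comp
        (MvPolynomial.renameEquiv A e).symm.toRingEquiv.toRingHom := by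
    apply MvPolynomial.ringHom_ext <;> intro x <;> simp
  have hA := (PrimeSpectrum.homeomorphOfRingEquiv (MvPolynomial.renameEquiv A e).toRingEquiv).isOpenMap
  have hB := (PrimeSpectrum.homeomorphOfRingEquiv
    (MvPolynomial.renameEquiv B e).toRingEquiv.symm).isOpenMap
  have h2 : (PrimeSpectrum.comap (MvPolynomial.map (σ := τ) φ)) =
      (fun x => PrimeSpectrum.comap (MvPolynomial.renameEquiv A e).symm.toRingEquiv.toRingHom
        (PrimeSpectrum.comap (MvPolynomial.map (σ := σ) φ)
          (PrimeSpectrum.comap (MvPolynomial.renameEquiv B e).toRingEquiv.toRingHom x))) := by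
    funext x
    rw [← PrimeSpectrum.comap_comp_apply, ← PrimeSpectrum.comap_comp_apply, ← RingHom.comp_assoc,
      ← h1]
  rw [h2]
  exact IsOpenMap.comp hA (h.comp hB)

end Groth.Agent.UnivOpenCrit

namespace Groth.Agent.UnivOpenCrit

/-- A morphism of affine schemes is universally open if all `𝔸ⁿ`-base changes are open. -/
lemma universallyOpen_of_isAffine {X S : Scheme.{u}} [IsAffine X] [IsAffine S] (g : X ⟶ S)
    (h : ∀ n : ℕ, IsOpenMap (AffineSpace.map (ULift.{u} (Fin n)) g)) : UniversallyOpen g := by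
  refine (MorphismProperty.arrow_mk_iso_iff @UniversallyOpen (arrowIsoSpecΓOfIsAffine g)).mpr ?_
  let φ := g.appTop
  algebraize [φ.hom]
  refine universallyOpen_Spec fun R _ _ => ?_
  refine PrimeSpectrum.isTopologicalBasis_basic_opens.isOpenMap_iff.mpr ?_
  rintro _ ⟨x, rfl⟩
  obtain ⟨n, r, b, rfl⟩ := exists_finite_repr x
  refine isOpen_image_basicOpen r b ?_
  refine isOpenMap_comap_map_of_equiv (Equiv.ulift.{u} (α := Fin n)) ?_ _
    PrimeSpectrum.isOpen_basicOpen
  have hiso : Arrow.mk (AffineSpace.map (ULift.{u} (Fin n)) g) ≅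
      Arrow.mk (AffineSpace.map (ULift.{u} (Fin n)) (Spec.map φ)) :=
    ((AffineSpace.functor.obj (Opposite.op (ULift.{u} (Fin n)))).mapArrow).mapIso
      (arrowIsoSpecΓOfIsAffine g)
  exact (MorphismProperty.arrow_mk_iso_iff (topologically @IsOpenMap)
    (hiso ≪≫ AffineSpace.mapSpecMap (n := ULift.{u} (Fin n)) φ)).mp (h n)

end Groth.Agent.UnivOpenCrit
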